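import Cfsg.Agent.LV.Lab.Lv

/-!
# LV, fusion of the classes of `± 1` (helper58)

`fus_ch` : if `w F` maps the positive roots to `e` times the positive roots, then two twisted conjugates of `w` fixing a label
in standard position are conjugate under the stabiliser of the label.
-/

set_option autoImplicit false
set_option linter.unusedSectionVars false

namespace Cfsg.Agent.LV.E6b

open Cfsg Cfsg.Agent.DL Cfsg.Agent.DL.PP Cfsg.Agent.KZ.Lie Cfsg.Agent.Tits.Core Cfsg.Agent.Tits.Roots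
  Cfsg.Agent.Tits.Exchange Cfsg.Agent.LV.T Cfsg.Agent.LV.Blk Cfsg.Agent.LV.Lab
  Cfsg.Agent.ChevalleyStructure.CoxeterGeom Matrix

variable {p : ℕ} [Fact p.Prime] {k : Type} [Field k] [CharP k p] {Y : Type} [Group Y] {N : Type} [Fintype N]
  [DecidableEq N] {ρ : Y →* GL N k} {F : MulAut Y} {G : Subgroup Y} [IsAlgClosed k] {D : Datum p ρ F G}
  {K : Set D.I} {w₁ w w' w'' v v' : D.W} {c : Lbl D} {e : ℤ}

theorem act_mul' (u u' : D.W) (a : D.I → ℤ) : D.act (u * u') a = D.act u (D.act u' a) := by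
  rw [Datum.act, map_mul]
  rfl

theorem act_zsmul (u : D.W) (n : ℤ) (a : D.I → ℤ) : D.act u (n • a) = n • D.act u a := map_zsmul _ _ _

theorem act_neg' (u : D.W) (a : D.I → ℤ) : D.act u (-a) = -D.act u a := map_neg _ _

theorem rt_smul (he : e = 1 ∨ e = -1) {a : D.I → ℤ} (ha : D.Rt a) : D.Rt (e • a) := by
  rcases he with rfl | rfl
  · rwa [one_smul]
  · rw [neg_smul, one_smul]
    exact ha.neg

/-- an element of `W_K` which keeps the simple roots in `K` positive is trivial -/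
theorem eq_one_of_pos {z : D.W} (hz : z ∈ WJ D.cs K) (h : ∀ i ∈ K, 0 ≤ D.act z (sr i)) : z = 1 := by
  obtain ⟨ω, h2, h1, rfl⟩ := exists_reduced_of_mem_WJ D.cs hz
  induction ω using List.reverseRecOn with
  | nil => simp
  | append_singleton ω i _ =>
    exfalso
    have h3 := h i (h2 i (by simp))
    have h4 : D.cs.length (D.cs.wordProd ω) < D.cs.length (D.cs.wordProd ω * D.cs.simple i) := by
      have h5 := D.cs.length_wordProd_le ω
      have h6 : D.cs.length (D.cs.wordProd (ω ++ [i])) = (ω ++ [i]).length := h1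
      rw [D.cs.wordProd_append, D.cs.wordProd_singleton, List.length_append, List.length_singleton] at h6
      omega
    have h7 : 0 ≤ D.act (D.cs.wordProd ω) (sr i) := nonneg_of_lt D.cs D.h _ i h4
    have hr := isRoot_sr D.cs D.h i
    rw [D.cs.wordProd_append, D.cs.wordProd_singleton, act_mul', ← D.rf_sr, D.act_rf_self hr, act_neg'] at h3
    exact (hr.act _).not_pos_neg h7 (neg_nonneg.1 h3)

/-- the normal form -/
theorem exists_nf (H : Std D K w₁ c) (he : e = 1 ∨ e = -1) (hw : ∀ a, D.Rt a → 0 ≤ a → 0 ≤ e • D.act w (D.g a))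
    (h1 : Fx D w' c) (ht : Tc D v w' w) : ∃ x y, Rel D x c c ∧ Tc D x w' y ∧ Fx D y c ∧
      ∀ a, D.Rt a → 0 ≤ a → (∀ i, i ∉ K → a i = 0) → 0 ≤ e • D.act y (D.g a) := by
  obtain ⟨d, e', L⟩ := exists_lvl D
  obtain ⟨x, hx, m, hv, hm⟩ := exists_isMinL D.cs K v⁻¹
  have h2 : Rel D x⁻¹ c c := (H.stab _).2 (inv_mem hx)
  have h3 : Tc D x⁻¹ w' (m * w * (D.Fw m)⁻¹) := by
    have := tc_trans ht (tc_self' m w)
    rwa [show m * v = x⁻¹ by rw [← inv_inv v, hv, _root_.mul_inv_rev, mul_inv_cancel_left]] at this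
  have h4 := fx_of_tc h3 h2 h1
  refine ⟨_, _, h2, h3, h4, fun a ha h5 h6 => ?_⟩
  have hb : D.Rt (D.act (m * w * (D.Fw m)⁻¹) (D.g a)) := (D.g_root _ ha).act _
  have h7 := (H.cor _ hb).1 ((h4.cor_iff L ha).2 ((H.cor _ ha).2 h6))
  have h8 : 0 ≤ D.act m⁻¹ a := by
    have := act_inv_nonpos hm (neg_nonpos.2 h5) fun i hi => by rw [Pi.neg_apply, h6 i hi, neg_zero]
    rwa [act_neg', neg_nonpos] at this
  have h9 := hw _ (ha.act m⁻¹) h8
  rw [D.g_act _ ha, map_inv] at h9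
  refine (rt_smul he hb).pos_or_neg.resolve_right fun h10 => ?_
  have h11 := act_inv_nonpos hm h10 fun i hi => by rw [Pi.smul_apply, h7 i hi, smul_zero]
  rw [act_zsmul, mul_assoc, act_mul', act_inv_act, act_mul'] at h11
  exact (rt_smul he (((D.g_root _ ha).act _).act w)).not_pos_neg h9 h11

/-- **Fusion of the class of `± 1`.** -/
theorem fus_ch (H : Std D K w₁ c) (he : e = 1 ∨ e = -1) (hw : ∀ a, D.Rt a → 0 ≤ a → 0 ≤ e • D.act w (D.g a))
    (h1 : Fx D w' c) (h2 : Fx D w'' c) (t1 : Tc D v w' w) (t2 : Tc D v' w'' w) : ∃ u, Rel D u c c ∧ Tc D u w' w'' := by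
  obtain ⟨d, e', L⟩ := exists_lvl D
  obtain ⟨x, y, a1, a2, a3, a4⟩ := exists_nf H he hw h1 t1
  obtain ⟨x', y', b1, b2, b3, b4⟩ := exists_nf H he hw h2 t2
  have h3 : y' * y⁻¹ = 1 := eq_one_of_pos ((H.stab _).1 (a3.div b3 L)) fun i hi => by
    have hr := rt_smul he (isRoot_sr D.cs D.h i)
    obtain ⟨a, ha, h4⟩ := D.g_surj (hr.act y⁻¹)
    have h5 : D.act y (D.g a) = e • sr i := by
      rw [h4, ← act_mul', mul_inv_cancel, CF.act_one]
    have he2 : e * e = 1 := by rcases he with rfl | rfl <;> norm_num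
    have h6 : ∀ j, j ∉ K → a j = 0 := (H.cor _ ha).1 ((a3.cor_iff L ha).1 (h5 ▸ (H.cor _ hr).2 fun j hj => by
      rw [Pi.smul_apply, sr_ne (i := i) (j := j) fun e => hj (e ▸ hi), smul_zero]))
    have h7 : 0 ≤ a := ha.pos_or_neg.resolve_right fun h => by
      have := a4 _ ha.neg (neg_nonneg.2 h) fun j hj => by rw [Pi.neg_apply, h6 j hj, neg_zero]
      rw [D.g_neg ha, act_neg', h5, smul_neg, smul_smul, he2, one_smul, neg_nonneg] at this
      exact (isRoot_sr D.cs D.h i).not_pos_neg (sr_nonneg i) this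
    have h8 := b4 a ha h7 h6
    rwa [h4, ← act_mul', act_zsmul, smul_smul, he2, one_smul] at h8
  obtain rfl : y' = y := mul_inv_eq_one.1 h3
  refine ⟨x'⁻¹ * x, a1.trans b1.symm, ?_⟩
  have a2' : y' * D.Fw x = x * w' := a2
  have b2' : y' * D.Fw x' = x' * w'' := b2
  show w'' * D.Fw (x'⁻¹ * x) = x'⁻¹ * x * w'
  rw [mul_assoc, ← a2', map_mul, map_inv, show w'' = x'⁻¹ * y' * D.Fw x' by rw [mul_assoc, b2', inv_mul_cancel_left]]
  group

end Cfsg.Agent.LV.E6b
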