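import Cfsg.Agent.LV.E6b.Tab
import Cfsg.Agent.LV.E6b.Ch
import Cfsg.Agent.LV.F4.Row
import Cfsg.Agent.KZ.TF.W0

/-!
# LV, `E₆` and `²E₆` for `p = 5`: labels for a Frobenius map of scalar type (helper84)

`g_eq`, `std_cart`, `std_univ`, `std_inv`, `std_levi`, `lab_unit`, `hz_top` (any datum).
-/

set_option autoImplicit false
set_option linter.unusedSectionVars false
set_option maxHeartbeats 400000

namespace Cfsg.Agent.LV.E6b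

open Cfsg Cfsg.Agent.DL Cfsg.Agent.DL.PP Cfsg.Agent.KZ.Lie Cfsg.Agent.LV.T Cfsg.Agent.LV.Blk Cfsg.Agent.LV.Lab
  Cfsg.Agent.Tits.Core Cfsg.Agent.Tits.Roots Cfsg.Agent.Tits.Exchange Cfsg.Agent.ChevalleyStructure.CoxeterGeom
  Cfsg.Agent.Nodes.Coroot Matrix

variable {p : ℕ} [Fact p.Prime] {k : Type} [Field k] [CharP k p] {Y : Type} [Group Y] {N : Type} [Fintype N]
  [DecidableEq N] {ρ : Y →* GL N k} {F : MulAut Y} {G : Subgroup Y} [IsAlgClosed k] {D : Datum p ρ F G}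
  {w₀ w w₁ : D.W} {Q : ℤ} {K : Set D.I} {c : Lbl D}

theorem g_eq (hw : D.Wm w₀ * D.Mx = Q • 1) (hQ : Q ≠ 0) :
    (∀ a, D.Rt a → D.g a = D.act w₀⁻¹ a) ∨ ∀ a, D.Rt a → D.g a = -D.act w₀⁻¹ a := by
  have h1 : ∀ a, D.ψ (D.act w₀⁻¹ a) = Q • a := fun a => D.wt_injective (by
    rw [D.wt_ψ, D.wt_act', vecMul_vecMul, hw, vecMul_smul, vecMul_one, map_zsmul])
  rcases hQ.lt_or_gt with h | h
  · exact .inr fun a ha => (D.eq_g_of_ψ ha (ha.act _).neg (neg_pos.2 h) (by rw [map_neg, h1, neg_smul])).symm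
  · exact .inl fun a ha => (D.eq_g_of_ψ ha (ha.act _) h (h1 a)).symm

theorem std_cart (hw : D.Wm w₀ * D.Mx = Q • 1) (hQ : Q ≠ 0) (H : Std D K w₁ c) : ∃ τ : D.I → D.I, ∀ i ∈ K, τ i ∈ K ∧
    w₁ * D.Fw (D.cs.simple i) = D.cs.simple (τ i) * w₁ ∧ ∀ i' ∈ K, D.A (τ i) (τ i') = D.A i i' := by
  have h1 : ∀ i j, D.A i j = cp D (sr j) (sr i) := fun i j => by rw [cp, cpr_sr, sr, pairing_single, mul_one]
  have h2 : ∀ a b, D.Rt a → D.Rt b → cp D (D.g a) (D.g b) = cp D a b := fun a b ha hb => by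
    rcases g_eq hw hQ with e | e <;> rw [e a ha, e b hb]
    · exact cp_act D _ _ hb
    · rw [cp, cpr_neg_right _ _ _ (hb.act _), ← ell_apply _ _ (hb.act _), map_neg, neg_neg, ell_apply]
      exact cp_act D _ _ hb
  choose τ h3 using fun i => (show ∃ j, i ∈ K → j ∈ K ∧ D.act w₁ (D.g (sr i)) = sr j ∧
      w₁ * D.Fw (D.cs.simple i) = D.cs.simple j * w₁ from
    (em (i ∈ K)).elim (fun hi => (H.node i hi).imp fun _ e _ => e) fun hi => ⟨i, fun e => absurd e hi⟩)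
  refine ⟨τ, fun i hi => ⟨(h3 i hi).1, (h3 i hi).2.2, fun i' hi' => ?_⟩⟩
  rw [h1, h1, ← (h3 i hi).2.1, ← (h3 i' hi').2.1, cp_act D _ _ (D.g_root _ (isRoot_sr _ _ i)),
    h2 _ _ (isRoot_sr _ _ i') (isRoot_sr _ _ i)]

theorem std_univ (hw : D.Wm w₀ * D.Mx = Q • 1) (hQ : ¬ 5 ∣ Q - 1) (hc : IsL 5 c) (H : Std D Set.univ w₁ c) : c = 1 := by
  obtain ⟨j, hj⟩ := hc
  have h1 : c ^ (Q - 1) = 1 := eq_of_chr D fun y => by
    have h2 := (H.fx w₀).2 (mem_WJ_univ _ _) y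
    rw [hw, smul_mulVec, one_mulVec, DL.chr_zsmul] at h2
    rw [map_zpow, map_one, _root_.zpow_sub, h2, zpow_one, mul_inv_cancel]
  refine (pow_eq_one_iff_of_coprime (((Nat.prime_five.coprime_iff_not_dvd.2 fun e =>
    hQ (Int.natCast_dvd.2 e)).pow_left j))).1 ⟨hj, ?_⟩
  exact pow_natAbs_eq_one.2 h1

variable [Fintype ↥(GF F G)] (f : Fr D)

theorem std_inv [Fintype D.W] (H : Std D K w₁ c) (χ : ↥(GF F G) → ℂ) : LV.W.Inv D.cs D.Fw K (yv f χ c) := fun g hg u => by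
  rw [← H.yv_cls f χ hg (u * D.Fw g), ← mul_assoc, mul_inv_cancel_right]

theorem std_levi {em : ℕ → D.I} (car : ∀ i < 6, ∀ j < 6, D.A (em i) (em j) = W.ga W.E6.AL i j) (sur : ∀ i, ∃ a < 6, em a = i)
    (hq : D.QS) (hw : D.Wm w₀ * D.Mx = Q • 1) (h0 : Q ≠ 0) (hQ : ¬ 5 ∣ Q - 1) (χ : IrrCharacter ↥(GF F G))
    [Fintype (WJ D.cs K)] (H : Std D K w₁ c) (hc : IsL 5 c) (h1 : c ≠ 1) : (nr f χ.1 c = 0 ∨ 3 / 4 ≤ nr f χ.1 c) ∧
      48 * ∑ x : WJ D.cs K, ph (yv f χ.1 c (x * w₁)) < 5 * Nat.card (WJ D.cs K) := by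
  let _ := Fintype.ofFinite D.W
  obtain ⟨τ, hτ⟩ := std_cart hw h0 H
  obtain ⟨L, hL, io, -, -, Φ⟩ := W.dispatch (h := D.h) W.E6_disp car sur (aut_Fw hq)
    (fun e => h1 (std_univ hw hQ hc (e ▸ H))) H.min τ hτ
  exact levi hL Φ (H.lv f hq (Uni.gen_of_irr χ.2)) (std_inv f H _) (H.nr_eq f _) (nr_le_one f χ.2 c)

theorem sum_tw_le [Fintype D.W] (w : D.W) {φ : D.W → ℝ} (h0 : ∀ u, 0 ≤ φ u) :
    ∑ v, φ (v⁻¹ * w * D.Fw v) ≤ Nat.card (CW D w) * ∑ u, φ u := by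
  classical
  rw [← Equiv.sum_comp (Equiv.inv D.W), Finset.sum_comp φ, Finset.mul_sum]
  refine (Finset.sum_le_sum fun u hu => ?_).trans (Finset.sum_le_sum_of_subset_of_nonneg (Finset.subset_univ _)
    fun u _ _ => mul_nonneg (Nat.cast_nonneg _) (h0 u))
  have h1 : ∀ v : D.W, (Equiv.inv D.W v)⁻¹ * w * D.Fw (Equiv.inv D.W v) = u ↔ Tc D v w u := fun v => by
    rw [Equiv.inv_apply, inv_inv, map_inv, mul_inv_eq_iff_eq_mul]
    exact eq_comm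
  obtain ⟨v, -, hv⟩ := Finset.mem_image.1 hu
  rw [nsmul_eq_mul, ← KZ.TF.card_tc ((h1 v).1 hv), Nat.card_eq_fintype_card, Fintype.card_subtype]
  simp only [h1, le_refl]

/-- **One orbit of labels, one class.** -/
theorem lab_unit (hq : D.QS) (hG : Good D 5) (χ : IrrCharacter ↥(GF F G)) (hc : IsL 5 c) (h1 : c ≠ 1)
    (h : ∀ b, IsL 5 b → ¬ Cj D c b → nr f χ.1 b = 0) (hC : Nat.card (CW D w) ≤ 1152)
    (h5 : ∀ v w', Tc D v w w' → ¬ 5 ∣ Nat.card (CW D w'))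
    (fus : ∀ K w₁ c w' w'' v v', Std D K w₁ c → Fx D w' c → Fx D w'' c → Tc D v w' w → Tc D v' w'' w →
      ∃ u, Rel D u c c ∧ Tc D u w' w'')
    (lev : ∀ K w₁ c [Fintype (WJ D.cs K)], Std D K w₁ c → IsL 5 c → c ≠ 1 →
      48 * ∑ x : WJ D.cs K, ph (yv f χ.1 c (x * w₁)) < 5 * Nat.card (WJ D.cs K))
    {m : ℤ} (hm : mL f 5 w 1 χ.1 = m) (h0 : m ≠ 0) (h24 : 24 ∣ m) : ¬ 5 ∣ m := by
  let _ := Fintype.ofFinite D.W
  have h2 := mL_ind f χ.1 (w := w) hc fun b hb e => (nr_eq_zero f _).1 (h b hb e) _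
  rw [hm] at h2
  obtain ⟨v, -, hv⟩ := Finset.exists_ne_zero_of_sum_ne_zero
    (h2 ▸ mul_ne_zero (Int.cast_ne_zero.2 h0) (Nat.cast_ne_zero.2 (card_St_ne c)))
  obtain ⟨v', c', K, w₁, x, hx, h3, h4, h6, H⟩ := exists_std' hq Nat.prime_five hG hc
    (by_contra fun e => hv (yv_zero f _ e))
  have h7 := tc_trans (tc_self v _).symm h4
  have h8 : ∀ b, IsL 5 b → ¬ Cj D c' b → nr f χ.1 b = 0 := fun b hb e => h b hb fun e' => e (Cj.trans ⟨_, h3.symm⟩ e')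
  obtain ⟨t, h9, h10⟩ := mL_unit f χ.1 (w := x * w₁) h6 (fun b hb e => (nr_eq_zero f _).1 (h8 b hb e) _)
    fun w' z e e' => fus _ _ _ _ _ _ _ H e (H.fx_mul hx) (tc_trans e' h7.symm) h7.symm
  obtain ⟨n, h11⟩ := yv_int f (Uni.gen_of_irr χ.2) c' (x * w₁)
  rw [← F4.mL_tc f _ h6 h8 h7, hm, h11] at h10
  intro hd
  have h12 : 5 ∣ n := (Int.prime_iff_natAbs_prime.2 (show (5 : ℤ).natAbs.Prime from Nat.prime_five) |>.dvd_or_dvd
    ((show m = t * n by exact_mod_cast h10) ▸ hd)).resolve_left fun e =>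
      h5 _ _ h7 ((Int.natCast_dvd_natCast.1 e).trans h9)
  let _ := Fintype.ofFinite (WJ D.cs K)
  have h13 := mL_ind f χ.1 (w := w) h6 fun b hb e => (nr_eq_zero f _).1 (h8 b hb e) _
  rw [hm, H.St_eq] at h13
  have h14 : ‖(m : ℂ) * Nat.card (WJ D.cs K)‖ ≤ ∑ z, ph (yv f χ.1 c' (z⁻¹ * w * D.Fw z)) := by
    rw [h13]
    refine norm_sum_le_of_le _ fun z _ => ?_
    by_cases e : Fx D (z⁻¹ * w * D.Fw z) c'
    · obtain ⟨u, e1, e2⟩ := fus _ _ _ _ _ _ _ H e (H.fx_mul hx) (tc_self z w) h7.symm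
      rw [yv_conj f _ e2 e1, h11, ph_of h12]
    · rw [yv_zero f _ e, ph_zero, norm_zero]
  have h15 := sum_tw_le w (φ := fun u => ph (yv f χ.1 c' u)) fun u => ph_nonneg _
  rw [H.sum_coset (fun u => ph (yv f χ.1 c' u)) fun u e => by rw [yv_zero f _ e, ph_zero]] at h15
  have h16 := lev K w₁ c' H h6 fun e => h1 (Cj.eq_one (e ▸ Cj.symm ⟨_, h3⟩))
  have h17 : (120 : ℝ) ≤ |(m : ℝ)| := by
    have : (120 : ℤ) ≤ |m| := Int.le_of_dvd (abs_pos.2 h0) ((dvd_abs _ _).2 (by omega))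
    exact_mod_cast this
  have h18 : (Nat.card (CW D w) : ℝ) ≤ 1152 := by exact_mod_cast hC
  have h19 : 0 ≤ ∑ x : WJ D.cs K, ph (yv f χ.1 c' (x * w₁)) := Finset.sum_nonneg fun _ _ => ph_nonneg _
  rw [norm_mul, Complex.norm_intCast, Complex.norm_natCast] at h14
  nlinarith [mul_le_mul_of_nonneg_right h17 (Nat.cast_nonneg (α := ℝ) (Nat.card (WJ D.cs K))),
    mul_le_mul_of_nonneg_right h18 h19]

include f in
/-- **Height zero** for a datum of type `E₆` -/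
theorem hz_top [Fintype D.W] {em : ℕ → D.I} (car : ∀ i < 6, ∀ j < 6, D.A (em i) (em j) = W.ga W.E6.AL i j)
    (sur : ∀ i, ∃ a < 6, em a = i) (hq : D.QS) (hG : Good D 5) (hw : D.Wm w₀ * D.Mx = Q • 1) (h0 : Q ≠ 0) (hQ : ¬ 5 ∣ Q - 1)
    {T : Tp} (hT : T.ok = true) (H : T.L.Ok) (hc : T.L.ceOK T.c = true)
    (Φ : W.Fit D.cs D.h D.Fw T.L.nd.toTy em Set.univ 1) {M : Ideal AlgInt} (hM : IsPModular 5 M) (hp : 5 ≠ p)
    (hS : SylT D 5 w) (h24 : ∀ χ : IrrCharacter ↥(GF F G), yv f χ.1 1 w = 0 → ∀ m : ℤ, mL f 5 w 1 χ.1 = m →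
      24 ∣ m ∧ m.natAbs ≤ Nat.card (CW D w))
    (hj : (D.cs.wordProd ((cx 6 ++ T.sf).map em) = w ∧ Nat.card (CW D w) ≤ 1152 ∧
        (∃ e : ℤ, (e = 1 ∨ e = -1) ∧ ∀ a, D.Rt a → 0 ≤ a → 0 ≤ e • D.act w (D.g a)) ∧
        ∃ u, D.cs.wordProd (([0, 1] ++ T.sf).map em) = u ∧ (Nat.card ↥(GF F G)).factorization 5 ≤
          (ordT D u).factorization 5 + (ordT D u).factorization 5) ∨
      (D.cs.wordProd ((cx 3 ++ T.sf).map em) = w ∧ Nat.card (CW D w) ≤ 96)) : HZ0 5 M ↥(GF F G) := by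
  obtain ⟨hK, -, -, e2, e4, e1, -, h25, hk⟩ := Tp.spec hT
  let _ := Fintype.ofFinite (WJ D.cs Set.univ)
  have h1 : ∀ {l : List ℕ} {n : ℕ}, W.clsOK T.L.nd l n = true → n % 256 < 25 ∧
      ∃ g, Tc D g (W.el D.cs T.L.nd em 1 (n % 256)) (D.cs.wordProd (l.map em)) := fun {l n} e => by
    obtain ⟨h2, ⟨g, -, h3⟩, -⟩ := Φ.cls H.good e
    rw [mul_one] at h3
    exact ⟨hK ▸ h2, g, h3⟩
  have hcl : ∀ u, ∃ i < 25, ∃ v, Tc D v u (W.el D.cs T.L.nd em 1 i) := fun u => by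
    obtain ⟨i, hi, g, -, h2⟩ := Φ.cover' H.good (mem_WJ_univ _ u)
    rw [mul_one] at h2
    exact ⟨i, hK ▸ hi, _, Tc.symm h2⟩
  have hL : ∀ (χ : IrrCharacter ↥(GF F G)) b, IsL 5 b → b ≠ 1 → nr f χ.1 b = 0 ∨ 3 / 4 ≤ nr f χ.1 b := fun χ b hb hb1 => by
    refine or_iff_not_imp_left.2 fun h2 => ?_
    obtain ⟨u, hu⟩ := not_forall.1 (mt (nr_eq_zero f _).2 h2)
    obtain ⟨c', K, w₁, h3, h4, H'⟩ := exists_std hq Nat.prime_five hG hb (by_contra fun e => hu (yv_zero f _ e))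
    let _ := Fintype.ofFinite (WJ D.cs K)
    rw [nr_cj f _ h3] at h2 ⊢
    exact (std_levi f car sur hq hw h0 hQ χ H' h4 fun e => hb1 (Cj.eq_one (e ▸ h3.symm))).1.resolve_left h2
  have ht := fun χ : IrrCharacter ↥(GF F G) => Tp.top hT H hc Φ ((std_one hq).lv f hq (Uni.gen_of_irr χ.2))
    (std_inv f (std_one hq) _) ((std_one hq).nr_eq f _) (nr_le_one f χ.2 1)
  have hU := fun χ => (ht χ).1.imp_right fun h => (by linarith : 1 - 3 / 4 < nr f χ.1 1)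
  have h2 : ∀ (χ : IrrCharacter ↥(GF F G)) b, b ≠ 1 → (∀ b', IsL 5 b' → ¬ Cj D b b' → nr f χ.1 b' = 0) →
      yv f χ.1 1 w = 0 := fun χ b hb h => (nr_eq_zero f _).1 (h 1 (isL_one 5) fun e => hb (Cj.eq_one e.symm)) w
  have h3 : ∀ v w', Tc D v w w' → SylT D 5 w' := fun v w' e => by rwa [SylT, ← F4.ordT_tc e]
  rcases hj with ⟨rfl, hC, ⟨e, he, hs⟩, _, rfl, hu⟩ | ⟨rfl, hC⟩
  · obtain ⟨t2, g2, c2⟩ := h1 e2
    obtain ⟨t1, g1, c1⟩ := h1 e1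
    refine F4.hz_of_cub f hM hp t2 (h3 _ _ c2.symm) hcl (a := 3 / 4) (by norm_num)
      hL hU (fun χ b hb hb1 hz m hm hm0 => ?_) (fun χ => (ht χ).2.2) h25 (fun t e => ?_) hk
    · rw [F4.mL_tc f _ hb hz c2] at hm
      exact lab_unit f hq hG χ hb hb1 hz hC (fun v w' e => SylT.not_dvd Nat.prime_five (h3 v w' e))
        (fun _ _ _ _ _ _ _ H' => fus_ch H' he hs) (fun K w₁ b _ H' h4 h5 => (std_levi f car sur hq hw h0 hQ χ H' h4 h5).2)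
        hm hm0 (h24 χ (h2 χ b hb1 hz) m hm).1
    · rw [List.mem_singleton.1 e, F4.ordT_tc c1]
      exact ⟨t1, t1, t1, hu⟩
  · obtain ⟨t4, g4, c4⟩ := h1 e4
    refine F4.hz_of_cub f hM hp t4 (h3 _ _ c4.symm) hcl (a := 3 / 4) (by norm_num)
      hL hU (fun χ b hb hb1 hz m hm hm0 => ?_) (bad := []) (T := []) (C := [])
      (fun χ m hm hm0 hd => absurd hd ((ht χ).2.1 m hm hm0)) (by simp) (by simp) rfl
    rw [F4.mL_tc f _ hb hz c4] at hm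
    have h4 := h24 χ (h2 χ b hb1 hz) m hm
    omega

end Cfsg.Agent.LV.E6b
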