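import Cfsg.Agent.LV.E6b.Lab
import Cfsg.Agent.LV.E6.D24

/-!
# LV, `E₆` and `²E₆`: height zero in the principal `5`-block (helper84)

`boxH`, `row_e6`, `row_tw6`.
-/

set_option autoImplicit false
set_option linter.unusedSectionVars false
set_option maxHeartbeats 400000

namespace Cfsg.Agent.LV.E6b

open CoxeterSystem Cfsg Cfsg.Lie Cfsg.Agent.DL Cfsg.Agent.DL.PP Cfsg.Agent.KZ.Lie Cfsg.Agent.KZ.DatX
  Cfsg.Agent.LV.T Cfsg.Agent.LV.W Cfsg.Agent.LV.Blk Cfsg.Agent.LV.Lab Cfsg.Agent.LV.E6 Cfsg.Agent.LV.F4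
  Cfsg.Agent.Tits.Core Cfsg.Agent.Tits.Exchange
  Cfsg.Agent.ChevalleyStructure.CoxeterGeom Cfsg.Agent.ChevalleyStructure.CoxeterGeomTypes Cfsg.Agent.Nodes.RGDChev Matrix

/-- the letters -/
def em6 (a : ℕ) : Fin 6 := Fin.ofNat 6 a

theorem car6 : ∀ i < 6, ∀ j < 6, cartanOf chevE6 6 (em6 i) (em6 j) = ga W.E6.AL i j := by decide +kernel

theorem sur6 : ∀ i : Fin 6, ∃ a < 6, em6 a = i := by decide

variable {p : ℕ} [Fact p.Prime] {k : Type} [Field k] [CharP k p] [IsAlgClosed k] {Mx : Matrix (Fin 6) (Fin 6) ℤ}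
  {X : XF hpE6 p k Mx} {w₀ : W6} {Q : ℤ}

theorem carX (X : XF hpE6 p k Mx) : ∀ i < 6, ∀ j < 6, X.D.A (em6 i) (em6 j) = ga W.E6.AL i j := fun i hi j hj =>
  (congrFun (congrFun (show X.D.A = cartanOf chevE6 6 from rfl) _) _).trans (car6 i hi j hj)

theorem wd_app {l s : List ℕ} {L : List (Fin 6)} (h : l.map em6 = L) (hs : E6.wd (s.map em6) = w₀) :
    E6.wd ((l ++ s).map em6) = E6.wd L * w₀ := by
  rw [List.map_append, ← hs, h]
  exact wordProd_append _ _ _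

theorem hz_X [Fintype ↥(GF X.F ⊤)] [Fintype X.D.W] (h : Fm X w₀ Q) {T : Tp} (hT : T.ok = true) (H : T.L.Ok)
    (hc : T.L.ceOK T.c = true) (Φ : Fit X.D.cs X.D.h X.D.Fw T.L.nd.toTy em6 Set.univ 1) (hs : E6.wd (T.sf.map em6) = w₀)
    (hw : ∃ e : ℤ, (e = 1 ∨ e = -1) ∧ ∀ a, X.D.Rt a → 0 ≤ a → 0 ≤ e • X.D.act (E6.wd L2 * w₀ : W6) (X.D.g a))
    {M : Ideal AlgInt} (hM : IsPModular 5 M) (hp : 5 ≠ p) (hj : Q % 5 = 4 ∨ Q % 5 = 2 ∨ Q % 5 = 3) : HZ0 5 M ↥(GF X.F ⊤) := by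
  obtain ⟨f⟩ := nonempty_fr X.D
  have h1 := @hz_top _ _ _ _ _ _ _ _ _ _ _ _ _ _ X.D w₀
  have hQ : ¬ 5 ∣ Q - 1 := by omega
  rcases hj with hj | hj
  · exact h1 f (carX X) sur6 X.D_qs (good_E6 X Nat.prime_five le_rfl) h.eq h.ne_zero hQ hT H hc Φ hM hp (h.syl2 hj)
      (fun χ e _ => dvd24 h (.inl ⟨rfl, hj⟩) f χ e)
      (.inl ⟨wd_app (by decide) hs, (card_CW h).1, hw, _, wd_app rfl hs, h.cub hj⟩)
  · exact h1 f (carX X) sur6 X.D_qs (good_E6 X Nat.prime_five le_rfl) h.eq h.ne_zero hQ hT H hc Φ hM hp (h.syl4 hj)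
      (fun χ e _ => dvd24 h (.inr ⟨rfl, hj⟩) f χ e) (.inr ⟨wd_app (by decide) hs, (card_CW h).2⟩)

theorem boxH : BoxH := fun p _ k _ _ _ Mx X _ M w₀ Q j hM hp hc h hj => by
  let _ := Fintype.ofFinite X.D.W
  have h1 : wm X (E6.wd L2) = -P6 := by rw [wm_wd, mt_L2]
  have h2 : (E6.wd L2 * E6.wd L2 : W6) = 1 := wm_inj X (by rw [wm_mul, h1, wm_one]; decide +kernel)
  have hQ := hj.imp And.right And.right
  rcases hc.Fw_simple h with ⟨rfl, e⟩ | ⟨rfl, e⟩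
  · refine hz_X h tpS_ok E6_ok E6_ceOK (Fit.top (carX X) sur6 fun a ha => (e _).trans (congrArg E6.sr ?_)) rfl
      ⟨-1, .inr rfl, fun a ha h0 => ?_⟩ hM hp hQ
    · exact (by decide : ∀ a < 6, em6 a = em6 (nth 0 [0, 1, 2, 3, 4, 5] a)) a ha
    · have h3 : ∀ b : Fin 6 → ℤ, 0 ≤ b → 0 ≤ (-1 : ℤ) • (b ᵥ* -P6) := fun b hb i => by
        rw [vecMul_neg, neg_smul, one_smul, neg_neg]
        exact Finset.sum_nonneg (s := Finset.univ) (f := fun j => b j * P6 j i) fun j _ =>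
          mul_nonneg (hb j) ((by decide +kernel : ∀ j i : Fin 6, decide (0 ≤ P6 j i) = true) j i |> of_decide_eq_true)
      have h4 := X.D.wt_act' (E6.wd L2) (X.D.g a)
      rw [mul_one, eq_inv_of_mul_eq_one_left h2]
      exact (congrArg (fun b : Fin 6 → ℤ => 0 ≤ (-1 : ℤ) • b) (h4.trans (congrArg (X.g a ᵥ* ·) h1))).mpr (h3 _ (X.qs a ha h0))
  · refine hz_X h tpT_ok E6_514320_ok E6_514320_ceOK (Fit.top (carX X) sur6 fun a ha => (e _).trans (congrArg E6.sr ?_))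
      ((congrArg E6.wd (by decide)).trans c_six.symm) ⟨1, .inl rfl, fun a ha h0 => ?_⟩ hM hp hQ
    · exact (by decide : ∀ a < 6, fl (em6 a) = em6 (nth 0 [5, 1, 4, 3, 2, 0] a)) a ha
    · rw [c_six, h2, one_smul]
      exact (CF.act_one X.D _).symm ▸ X.qs a ha h0

/-- **The row `E₆` for `p = 5`.** -/
theorem row_e6 : Row 5 (ChevX 5 chevE6 0) := (rows_of boxH).1

/-- **The row `²E₆` for `p = 5`.** -/
theorem row_tw6 : Row 5 (TwE6X 5) := (rows_of boxH).2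

end Cfsg.Agent.LV.E6b
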