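import Cfsg.Agent.LV.W.C6
import Cfsg.Agent.LV.F4.Kill

/-!
# LV, `E₆` and `²E₆` for `p = 5`: the short dual vectors (helper84)

`levi` : the proper cosets; `Tp.top` : the whole Weyl group, `tpS`, `tpT` the data for the two forms.
-/

set_option autoImplicit false
set_option linter.unusedSectionVars false

namespace Cfsg.Agent.LV.E6b

open CoxeterSystem Cfsg.Agent.Tits.Exchange Cfsg.Agent.Tits.Core Cfsg.Agent.Tits.Roots
  Cfsg.Agent.ChevalleyStructure.CoxeterGeom Cfsg.Agent.LV.T Cfsg.Agent.LV.W Cfsg.Agent.LV.F4 Finset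

open Classical in
/-- the absolute value of the multiples of `5` -/
noncomputable def ph (z : ℂ) : ℝ := if ∃ j : ℤ, z = 5 * j then ‖z‖ else 0

theorem ph_nonneg (z : ℂ) : 0 ≤ ph z := by
  unfold ph
  split_ifs
  exacts [norm_nonneg z, le_rfl]

theorem ph_zero : ph 0 = 0 := by simp [ph]

theorem ph_of {n : ℤ} (h : 5 ∣ n) : ph n = ‖(n : ℂ)‖ := if_pos (h.imp fun j e => by rw [e]; push_cast; rfl)

/-- the same for `N` times the value -/
def phZ (N v : ℤ) : ℤ := if v % (N * 5) = 0 then |v| else 0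

theorem ph_eq {N v : ℤ} (hN : 0 < N) {a : ℚ} (h : (v : ℚ) = N * a) : N * ph (a : ℚ) = phZ N v := by
  have h1 : (v : ℂ) = N * (a : ℚ) := by exact_mod_cast congrArg (Rat.cast : ℚ → ℂ) h
  have h2 : (N : ℂ) ≠ 0 := Int.cast_ne_zero.2 hN.ne'
  have h3 : (∃ j : ℤ, ((a : ℚ) : ℂ) = 5 * j) ↔ v % (N * 5) = 0 := by
    rw [← Int.dvd_iff_emod_eq_zero]
    refine exists_congr fun j => ?_
    rw [← Int.cast_inj (α := ℂ), h1, Int.cast_mul, Int.cast_mul, mul_assoc, mul_right_inj' h2]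
    rfl
  rw [ph, phZ]
  by_cases e : v % (N * 5) = 0
  · rw [if_pos e, if_pos (h3.2 e), Int.cast_abs, ← Complex.norm_intCast, h1, norm_mul, Complex.norm_intCast,
      abs_of_pos (Int.cast_pos.2 hN)]
  · rw [if_neg e, if_neg (mt h3.1 e), mul_zero, Int.cast_zero]

/-- the test for a proper coset -/
noncomputable def tL (L : LV.W.Lat) (c : Ce) : Bool :=
  decide (0 < c.S) && decide (0 < c.N) && decide (L.nd.nW.length ≤ L.nd.K) &&
    L.enum c ((List.range L.nd.K).map L.col) c.S fun rem vs => (decide (rem = c.S) || decide (4 * rem ≤ c.S)) &&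
      decide (48 * dotL L.nd.nW (vs.map (phZ c.N)) < c.N * (5 * L.nd.ν 0))

theorem ck_L : all2 tL E6_Ls E6_ces = true := by decide +kernel

variable {I W : Type} [Fintype I] [DecidableEq I] [Group W] [Fintype W] {M : CoxeterMatrix I}
  {cs : CoxeterSystem M W} {A : I → I → ℤ} {h : IsCartan M A} {ψ : MulAut W} {em : ℕ → I} {J : Set I} {w : W}
  [Fintype (WJ cs J)] {y : W → ℂ} {r : ℝ} {L : LV.W.Lat}

theorem out (H : L.Ok) (F : Fit cs h ψ L.nd.toTy em J w) (hl : Lv cs ψ J w y) (hy : Inv cs ψ J y)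
    (hr : r = (Nat.card (WJ cs J) : ℝ)⁻¹ * ∑ x : WJ cs J, ‖y (x * w)‖ ^ 2) (h1 : r ≤ 1) {c : Ce} (hc : L.ceOK c = true)
    (hS : 0 < c.S) {P : ℤ → List ℤ → Bool} (he : L.enum c ((List.range L.nd.K).map L.col) c.S P = true) :
    ∃ (rem : ℤ) (v : ℕ → ℤ) (a : ℕ → ℚ), (rem : ℝ) = c.S - c.S * r ∧ (∀ k, (v k : ℚ) = c.N * a k) ∧
      (∀ k < L.nd.K, y (el cs L.nd em w k) = a k) ∧ P rem ((List.range L.nd.K).map v) = true := by
  obtain ⟨z, h2, h3⟩ := H.out F hl hy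
  rw [h3, inv_mul_cancel_left₀ (Nat.cast_ne_zero.2 Nat.card_pos.ne')] at hr
  subst hr
  obtain ⟨rem, v, h4, h5, h6⟩ := LV.W.Lat.enum_val hc he z
    (mul_le_of_le_one_right (Int.cast_nonneg_iff.2 hS.le) (by exact_mod_cast h1))
  exact ⟨rem, v, _, by exact_mod_cast congrArg (Rat.cast : ℚ → ℝ) h4, h5, h2, h6⟩

theorem getD_range {α : Type} (f : ℕ → α) (d : α) {n i : ℕ} (hi : i < n) : ((List.range n).map f).getD i d = f i := by
  rw [List.getD_eq_getElem _ _ (by simpa using hi), List.getElem_map, List.getElem_range]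

/-- **the proper cosets** -/
theorem levi (hL : L ∈ E6_Ls) (F : Fit cs h ψ L.nd.toTy em J w) (hl : Lv cs ψ J w y) (hy : Inv cs ψ J y)
    (hr : r = (Nat.card (WJ cs J) : ℝ)⁻¹ * ∑ x : WJ cs J, ‖y (x * w)‖ ^ 2) (h1 : r ≤ 1) :
    (r = 0 ∨ 3 / 4 ≤ r) ∧ 48 * ∑ x : WJ cs J, ph (y (x * w)) < 5 * Nat.card (WJ cs J) := by
  obtain ⟨c, hc, ht⟩ := all_of_all2 E6_ces_ok ck_L hL
  simp only [tL, Bool.and_eq_true, decide_eq_true_eq] at ht
  obtain ⟨⟨⟨hS, hN⟩, hn⟩, he⟩ := ht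
  have H := E6_Ls_ok L hL
  obtain ⟨rem, v, a, h2, h3, h4, h5⟩ := out H F hl hy hr h1 hc hS he
  simp only [Bool.and_eq_true, Bool.or_eq_true, decide_eq_true_eq] at h5
  have hS' : (0 : ℝ) < c.S := Int.cast_pos.2 hS
  have hN' : (0 : ℝ) < c.N := Int.cast_pos.2 hN
  refine ⟨h5.1.imp (fun e => ?_) fun e => ?_, ?_⟩
  · rw [e] at h2
    exact (mul_eq_zero.1 (by linarith : (c.S : ℝ) * r = 0)).resolve_left hS'.ne'
  · have h6 : (4 : ℝ) * rem ≤ c.S := by exact_mod_cast e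
    exact le_of_mul_le_mul_left (by linarith) hS'
  · have h6 := F.mass H.good (y := fun u => (ph (y u) : ℝ)) fun g hg u => by simp only [hy g hg u]
    have h7 : ∑ x : WJ cs J, ph (y (x * w)) =
        Nat.card (WJ cs J) * ((∑ k ∈ range L.nd.K, L.nd.n k * ph (y (el cs L.nd em w k))) / L.nd.ν 0) := by
      exact_mod_cast h6
    have h8 : (c.N : ℝ) * ∑ k ∈ range L.nd.K, L.nd.n k * ph (y (el cs L.nd em w k)) =
        dotL L.nd.nW (((List.range L.nd.K).map v).map (phZ c.N)) := by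
      rw [dotL_eq _ _ hn, mul_sum, Int.cast_sum, List.map_map]
      refine sum_congr rfl fun k hk => ?_
      rw [getD_range _ _ (mem_range.1 hk), h4 k (mem_range.1 hk), mul_left_comm, ph_eq hN (h3 k), Nd.n, nth_eq, Int.cast_mul]
      rfl
    have h9 : (48 : ℝ) * dotL L.nd.nW (((List.range L.nd.K).map v).map (phZ c.N)) < c.N * (5 * L.nd.ν 0) := by
      exact_mod_cast h5.2
    have h10 : (0 : ℝ) < L.nd.ν 0 := Int.cast_pos.2 (H.good.orth H.good.spec.2.1).1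
    rw [← h8, mul_left_comm, mul_lt_mul_iff_right₀ hN'] at h9
    rw [h7, mul_left_comm, mul_comm 5, mul_lt_mul_iff_right₀ (Nat.cast_pos.2 Nat.card_pos), ← mul_div_assoc,
      div_lt_iff₀ h10]
    exact h9

/-- the data for the whole group: the twist, the classes of three elements, the bad vectors -/
structure Tp where
  L : LV.W.Lat
  c : Ce
  sf : List ℕ
  c2 : ℕ
  c4 : ℕ
  c1 : ℕ
  bad : List (List ℤ)

/-- powers of the Coxeter element -/
def cx (j : ℕ) : List ℕ := (List.replicate j [0, 3, 5, 1, 2, 4]).flatten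

/-- the test at a leaf -/
noncomputable def Tp.lf (T : Tp) (rem : ℤ) (vs : List ℤ) : Bool :=
  (decide (rem = 72) || decide (rem < 54)) &&
  (decide (vs.getD (T.c4 % 256) 0 = 0) || decide (vs.getD (T.c4 % 256) 0 % 30 ≠ 0)) &&
  (decide (vs.getD (T.c2 % 256) 0 = 0) || decide (vs.getD (T.c2 % 256) 0 % 30 ≠ 0) || (decide (rem < 36) &&
    T.bad.any fun b => decide (vs = b.map (6 * ·)) || decide (vs = b.map (-6 * ·))))

/-- the checks -/
noncomputable def Tp.ok (T : Tp) : Bool :=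
  decide (T.L.nd.K = 25) && decide (T.c.N = 6) && decide (T.c.S = 72) &&
  clsOK T.L.nd (cx 6 ++ T.sf) T.c2 && clsOK T.L.nd (cx 3 ++ T.sf) T.c4 && clsOK T.L.nd ([0, 1] ++ T.sf) T.c1 &&
  T.L.enum T.c ((List.range T.L.nd.K).map T.L.col) T.c.S T.lf &&
  (T.bad.all fun b => decide (b.length ≤ 25) && decide (b.getD (T.c2 % 256) 0 % 25 ≠ 0)) &&
  killB 5 (cubT T.bad (T.c2 % 256) [(T.c1 % 256, T.c1 % 256, T.c1 % 256)]) [[0], [1]]

/-- the split form -/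
noncomputable def tpS : Tp := ⟨E6_L, E6_ce, [], 0x10203123432050d, 0x120312345432009, 0x13143205431234503,
  [[30, 10, 3, 2, 0, 1, -2, 0, -1, -2, 0, -1, 3, -10, 1, 0, -1, 0, -4, 1, 1, 0, -1, -1, 3],
   [30, -10, 3, 2, 0, -1, 2, 0, -1, -2, 0, -1, 3, -10, -1, 0, 1, 0, 4, -1, 1, 0, -1, -1, 3]]⟩

/-- the twisted form -/
noncomputable def tpT : Tp := ⟨E6_514320_L, E6_514320_ce, cx 6, 0x100, 0x123517, 0x12312431254312006,
  [[-10, 4, 2, -1, -1, 0, 2, -1, 0, -1, -1, -1, 0, 1, 0, -10, 0, 1, 0, 3, 3, -1, 3, -2, 30],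
   [-10, -4, -2, -1, -1, 0, 2, -1, 0, 1, 1, 1, 0, -1, 0, 10, 0, 1, 0, 3, 3, -1, 3, -2, 30]]⟩

theorem tpS_ok : tpS.ok = true := by decide +kernel

theorem tpT_ok : tpT.ok = true := by decide +kernel

theorem Tp.spec {T : Tp} (h : T.ok = true) : T.L.nd.K = 25 ∧ T.c.N = 6 ∧ T.c.S = 72 ∧
    clsOK T.L.nd (cx 6 ++ T.sf) T.c2 = true ∧ clsOK T.L.nd (cx 3 ++ T.sf) T.c4 = true ∧
    clsOK T.L.nd ([0, 1] ++ T.sf) T.c1 = true ∧ T.L.enum T.c ((List.range T.L.nd.K).map T.L.col) T.c.S T.lf = true ∧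
    (∀ b ∈ T.bad, b.length ≤ 25 ∧ ¬ 25 ∣ b.getD (T.c2 % 256) 0) ∧
    killB 5 (cubT T.bad (T.c2 % 256) [(T.c1 % 256, T.c1 % 256, T.c1 % 256)]) [[0], [1]] = true := by
  simpa only [Tp.ok, Bool.and_eq_true, decide_eq_true_eq, List.all_eq_true, and_assoc, ne_eq,
    ← Int.dvd_iff_emod_eq_zero] using h

/-- **the whole group** -/
theorem Tp.top {T : Tp} (hT : T.ok = true) (H : T.L.Ok) (hc : T.L.ceOK T.c = true) (F : Fit cs h ψ T.L.nd.toTy em J w)
    (hl : Lv cs ψ J w y) (hy : Inv cs ψ J y) (hr : r = (Nat.card (WJ cs J) : ℝ)⁻¹ * ∑ x : WJ cs J, ‖y (x * w)‖ ^ 2)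
    (h1 : r ≤ 1) : (r = 0 ∨ 1 / 4 < r) ∧ (∀ m : ℤ, y (el cs T.L.nd em w (T.c4 % 256)) = m → m ≠ 0 → ¬ 5 ∣ m) ∧
      ∀ m : ℤ, y (el cs T.L.nd em w (T.c2 % 256)) = m → m ≠ 0 → 5 ∣ m → 1 / 2 < r ∧ ∃ b ∈ T.bad, ∃ ε : ℤ,
        (ε = 1 ∨ ε = -1) ∧ ∀ i < 25, y (el cs T.L.nd em w i) = (ε * b.getD i 0 : ℤ) := by
  obtain ⟨hK, hN, hS, e2, e4, -, he, -⟩ := Tp.spec hT
  obtain ⟨rem, v, a, h2, h3, h4, h5⟩ := out H F hl hy hr h1 hc (by rw [hS]; decide) he
  have t2 := (F.cls H.good e2).1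
  have t4 := (F.cls H.good e4).1
  simp only [Tp.lf, Bool.and_eq_true, Bool.or_eq_true, decide_eq_true_eq, List.any_eq_true, getD_range _ _ t2,
    getD_range _ _ t4] at h5
  rw [hS] at h2
  rw [hN] at h3
  have h6 : ∀ k < T.L.nd.K, ∀ m : ℤ, y (el cs T.L.nd em w k) = m ↔ v k = 6 * m := fun k hk m => by
    rw [h4 k hk, ← Int.cast_inj (α := ℚ), h3, Int.cast_mul, mul_right_inj' (by norm_num), ← Rat.cast_inj (α := ℂ),
      Rat.cast_intCast]
  push_cast at h2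
  refine ⟨h5.1.1.imp (fun e => ?_) fun e => ?_, fun m hm h0 hd => ?_, fun m hm h0 hd => ?_⟩
  · rw [e] at h2
    push_cast at h2
    linarith
  · have : (rem : ℝ) < 54 := by exact_mod_cast e
    linarith
  · have := (h6 _ t4 m).1 hm
    omega
  · have h7 := (h6 _ t2 m).1 hm
    obtain ⟨h8, b, h9, h10⟩ := h5.2.resolve_left (by omega)
    have h11 : (rem : ℝ) < 36 := by exact_mod_cast h8
    have h12 : ∀ (s : ℤ) i, (b.map (s * ·)).getD i 0 = s * b.getD i 0 := fun s i => by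
      rw [← nth_eq, nth_map_mul, nth_eq]
    refine ⟨by linarith, b, h9, ?_⟩
    rcases h10 with e | e
    · exact ⟨1, .inl rfl, fun i hi => (h6 i (hK ▸ hi) _).2 (by rw [← getD_range v 0 (hK ▸ hi), e, h12]; ring)⟩
    · exact ⟨-1, .inr rfl, fun i hi => (h6 i (hK ▸ hi) _).2 (by rw [← getD_range v 0 (hK ▸ hi), e, h12]; ring)⟩

end Cfsg.Agent.LV.E6b
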